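import Cfsg.Agent.Lib.FrobThm.Thompson
import Cfsg.Agent.Lib.Hall.FPF
import Cfsg.Agent.Lib.Core.Basic
import Cfsg.Agent.Lib.Transfer.Frobenius
import Cfsg.Agent.S0032
import Mathlib

/-! Thompson's theorem: a finite group with a fixed-point-free automorphism of prime order is nilpotent. -/

set_option autoImplicit false
set_option linter.style.haveILetI false

namespace Cfsg.Agent.Lib.FrobThm

open Cfsg Cfsg.Agent.Lib.Techniques
open scoped BigOperators

universe u

/-- The trace identity (the "slick" part of the argument). -/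
theorem trace_identity {A Q : Type*} [CommGroup A] [Group Q] [Fintype Q] {r : ℕ} (hr : r.Prime)
    (σ : A →* A) (τ : Q →* Q) (hσfix : ∀ v, σ v = v → v = 1) (hτfix : ∀ y, τ y = y → y = 1)
    (hσr : ∀ v, σ^[r] v = v) (hτr : ∀ y, τ^[r] y = y)
    (c : Q →* Monoid.End A) (hc : ∀ y v, σ (c y v) = c (τ y) (σ v)) (v : A) :
    ∏ y : Q, c y v = v ^ Fintype.card Q := by
  classical
  have hnorm : ∀ w : A, ∏ i ∈ Finset.range r, σ^[i] w = 1 := by
    intro w
    apply hσfix
    rw [map_prod]
    have h1 : ∏ i ∈ Finset.range r, σ (σ^[i] w) = ∏ i ∈ Finset.range r, σ^[i + 1] w :=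
      Finset.prod_congr rfl fun i _ => (Function.iterate_succ_apply' σ i w).symm
    rw [h1]
    have h2 := Finset.prod_range_succ (fun i => σ^[i] w) r
    have h3 := Finset.prod_range_succ' (fun i => σ^[i] w) r
    rw [h2, hσr] at h3
    simp only [Function.iterate_zero, id_eq] at h3
    exact (mul_right_cancel h3).symm
  have hcit : ∀ (i : ℕ) (y : Q) (w : A), σ^[i] (c y w) = c (τ^[i] y) (σ^[i] w) := by
    intro i
    induction i with
    | zero => intro y w; rfl
    | succ i ih =>
      intro y w
      rw [Function.iterate_succ_apply', Function.iterate_succ_apply', Function.iterate_succ_apply', ih, hc]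
  have hτinv : ∀ (i : ℕ) (y : Q), τ^[i] y⁻¹ = (τ^[i] y)⁻¹ := by
    intro i y
    induction i with
    | zero => rfl
    | succ i ih => rw [Function.iterate_succ_apply', Function.iterate_succ_apply', ih, map_inv]
  have hτmul : ∀ (i : ℕ) (y z : Q), τ^[i] (y * z) = τ^[i] y * τ^[i] z := by
    intro i y z
    induction i with
    | zero => rfl
    | succ i ih =>
      rw [Function.iterate_succ_apply', Function.iterate_succ_apply', Function.iterate_succ_apply', ih, map_mul]
  -- the identity for each `y`
  have h1 : ∀ y : Q, ∏ i ∈ Finset.range r, c (y * (τ^[i] y)⁻¹) (σ^[i] v) = 1 := by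
    intro y
    have h2 := hnorm (c y⁻¹ v)
    have h3 := congrArg (c y) h2
    rw [map_one, map_prod] at h3
    rw [← h3]
    refine Finset.prod_congr rfl fun i _ => ?_
    rw [hcit, hτinv, map_mul]
    rfl
  -- sum over `y`
  have h4 : ∏ i ∈ Finset.range r, ∏ y : Q, c (y * (τ^[i] y)⁻¹) (σ^[i] v) = 1 := by
    rw [Finset.prod_comm]
    exact Finset.prod_eq_one fun y _ => h1 y
  -- the trace homomorphism
  let S : A →* A := ∏ x : Q, (show A →* A from c x)
  have hS : ∀ u, S u = ∏ x : Q, c x u := fun u => MonoidHom.finset_prod_apply _ _ _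
  -- bijectivity for `0 < i < r`
  have hT : ∀ i, 0 < i → i < r → ∏ y : Q, c (y * (τ^[i] y)⁻¹) (σ^[i] v) = S (σ^[i] v) := by
    intro i hi0 hir
    rw [hS]
    have hinj : Function.Injective (fun y : Q => y * (τ^[i] y)⁻¹) := by
      intro y z hyz
      have h5 : y * (τ^[i] y)⁻¹ = z * (τ^[i] z)⁻¹ := hyz
      have h5' : z⁻¹ * y = (τ^[i] z)⁻¹ * τ^[i] y := by
        have := congrArg (fun t => z⁻¹ * t * τ^[i] y) h5
        simpa [mul_assoc] using this
      have h6 : τ^[i] (z⁻¹ * y) = z⁻¹ * y := by
        rw [hτmul, hτinv, h5']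
      have h8 : Function.IsPeriodicPt τ i (z⁻¹ * y) := h6
      have h9 : Function.IsPeriodicPt τ r (z⁻¹ * y) := hτr _
      have h10 := Function.IsPeriodicPt.gcd h8 h9
      have hg : Nat.gcd i r = 1 := by
        rw [Nat.gcd_comm]
        exact (Nat.Prime.coprime_iff_not_dvd hr).2 (Nat.not_dvd_of_pos_of_lt hi0 hir)
      rw [hg] at h10
      have h11 : z⁻¹ * y = 1 := hτfix _ h10
      exact (inv_mul_eq_one.1 h11).symm
    exact (Finite.injective_iff_bijective.1 hinj).prod_comp (fun x => c x (σ^[i] v))
  obtain ⟨r', rfl⟩ := Nat.exists_eq_succ_of_ne_zero hr.ne_zero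
  rw [Finset.prod_range_succ'] at h4
  have h5 : ∏ i ∈ Finset.range r', ∏ y : Q, c (y * (τ^[i + 1] y)⁻¹) (σ^[i + 1] v) =
      S (∏ i ∈ Finset.range r', σ^[i + 1] v) := by
    rw [map_prod]
    refine Finset.prod_congr rfl fun i hi => ?_
    exact hT (i + 1) (Nat.succ_pos i) (Nat.succ_lt_succ (Finset.mem_range.1 hi))
  have h6 : ∏ y : Q, c (y * (τ^[0] y)⁻¹) (σ^[0] v) = v ^ Fintype.card Q := by
    have : ∀ y : Q, c (y * (τ^[0] y)⁻¹) (σ^[0] v) = v := by
      intro y
      show c (y * y⁻¹) v = v
      rw [mul_inv_cancel, map_one]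
      rfl
    rw [Finset.prod_congr rfl (fun y _ => this y), Finset.prod_const, Finset.card_univ]
  have h7 : ∏ i ∈ Finset.range r', σ^[i + 1] v = v⁻¹ := by
    have := hnorm v
    rw [Finset.prod_range_succ'] at this
    exact eq_inv_of_mul_eq_one_left this
  rw [h5, h6, h7, map_inv] at h4
  rw [← hS]
  exact (inv_mul_eq_one.1 h4)

section Coprime

variable {G : Type*} [Group G] [Finite G]

/-- Subgroups invariant under `α`, of order prime to an invariant abelian normal subgroup, centralize it. -/
theorem coprime_centralizes (α : G ≃* G) (hfix : ∀ x, α x = x → x = 1) {r : ℕ} (hr : r.Prime)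
    (hαr : ∀ x, α^[r] x = x) {N Q : Subgroup G} [hN : N.Normal] (hNc : ∀ a ∈ N, ∀ b ∈ N, a * b = b * a)
    (hNα : ∀ n ∈ N, α n ∈ N) (hQα : ∀ q ∈ Q, α q ∈ Q) (hcop : (Nat.card N).Coprime (Nat.card Q)) :
    ∀ q ∈ Q, ∀ n ∈ N, q * n * q⁻¹ = n := by
  classical
  letI : Fintype Q := Fintype.ofFinite _
  letI : CommGroup N := { (inferInstance : Group N) with mul_comm := fun a b => Subtype.ext (hNc a a.2 b b.2) }
  let σ : N →* N := (α.toMonoidHom.comp N.subtype).codRestrict N (fun x => hNα x x.2)
  let τ : Q →* Q := (α.toMonoidHom.comp Q.subtype).codRestrict Q (fun x => hQα x x.2)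
  have hσc : ∀ (i : ℕ) (v : N), ((σ^[i] v : N) : G) = α^[i] v := by
    intro i v
    induction i with
    | zero => rfl
    | succ i ih =>
      rw [Function.iterate_succ_apply', Function.iterate_succ_apply', ← ih]
      rfl
  have hτc : ∀ (i : ℕ) (v : Q), ((τ^[i] v : Q) : G) = α^[i] v := by
    intro i v
    induction i with
    | zero => rfl
    | succ i ih =>
      rw [Function.iterate_succ_apply', Function.iterate_succ_apply', ← ih]
      rfl
  let c : Q →* Monoid.End N :=
    { toFun := fun y => (MulAut.conjNormal (y : G)).toMonoidHom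
      map_one' := by
        refine MonoidHom.ext fun v => Subtype.ext ?_
        show (MulAut.conjNormal ((1 : Q) : G) v : G) = v
        rw [MulAut.conjNormal_apply]
        simp
      map_mul' := by
        intro a b
        refine MonoidHom.ext fun v => Subtype.ext ?_
        show (MulAut.conjNormal ((a * b : Q) : G) v : G) = (MulAut.conjNormal (a : G) (MulAut.conjNormal (b : G) v) : G)
        rw [MulAut.conjNormal_apply, MulAut.conjNormal_apply, MulAut.conjNormal_apply]
        simp [mul_assoc] }
  have hcc : ∀ (y : Q) (v : N), ((c y v : N) : G) = y * v * (y : G)⁻¹ := fun y v => MulAut.conjNormal_apply _ _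
  have hc : ∀ y v, σ (c y v) = c (τ y) (σ v) := by
    intro y v
    apply Subtype.ext
    rw [hcc]
    show α ((c y v : N) : G) = (α y) * (α v) * (α y)⁻¹
    rw [hcc, map_mul, map_mul, map_inv]
  have key := trace_identity hr σ τ
    (fun v hv => Subtype.ext (hfix _ (congrArg Subtype.val hv)))
    (fun y hy => Subtype.ext (hfix _ (congrArg Subtype.val hy)))
    (fun v => Subtype.ext (by rw [hσc, hαr]))
    (fun y => Subtype.ext (by rw [hτc, hαr]))
    c hc
  have hcard : Fintype.card Q = Nat.card Q := (Nat.card_eq_fintype_card).symm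
  intro q hq n hn
  -- `n` is a power
  let e := powCoprime hcop
  obtain ⟨u, hu⟩ := e.surjective ⟨n, hn⟩
  have hu' : u ^ Fintype.card Q = ⟨n, hn⟩ := by rw [hcard]; exact hu
  have h1 := key u
  rw [hu'] at h1
  have h2 : c ⟨q, hq⟩ (∏ y : Q, c y u) = ∏ y : Q, c y u := by
    rw [map_prod]
    have h3 : ∀ y : Q, c ⟨q, hq⟩ (c y u) = c (⟨q, hq⟩ * y) u := by
      intro y
      rw [map_mul]
      rfl
    rw [Finset.prod_congr rfl (fun y _ => h3 y)]
    exact (Equiv.mulLeft (⟨q, hq⟩ : Q)).bijective.prod_comp (fun x => c x u)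
  rw [h1] at h2
  have h3 := congrArg Subtype.val h2
  rw [hcc] at h3
  exact h3

/-- A subgroup containing a Sylow subgroup for each prime is everything. -/
theorem eq_top_of_contains_sylow {H : Subgroup G}
    (h : ∀ q : ℕ, q.Prime → ∃ S : Subgroup G, S ≤ H ∧ IsPGroup q S ∧ ¬ q ∣ S.index) : H = ⊤ := by
  by_contra hne
  have hi : H.index ≠ 1 := fun h1 => hne (Subgroup.index_eq_one.1 h1)
  obtain ⟨q, hq, hqd⟩ := Nat.exists_prime_and_dvd hi
  obtain ⟨S, hSH, -, hSi⟩ := h q hq
  exact hSi (hqd.trans (Subgroup.index_dvd_of_le hSH))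

/-- An abelian invariant normal `p`-subgroup forces a nontrivial centre. -/
theorem center_ne_bot_of_abelian (α : G ≃* G) (hfix : ∀ x, α x = x → x = 1) {r : ℕ} (hr : r.Prime)
    (hαr : ∀ x, α^[r] x = x) {V : Subgroup G} [hV : V.Normal] {p : ℕ} [hp : Fact p.Prime] (hVp : IsPGroup p V)
    (hVb : V ≠ ⊥) (hVc : ∀ a ∈ V, ∀ b ∈ V, a * b = b * a) (hVα : ∀ n ∈ V, α n ∈ V) :
    Subgroup.center G ≠ ⊥ := by
  obtain ⟨P⟩ : Nonempty (Sylow p G) := inferInstance
  have hVP : V ≤ P := hVp.le_sylow_of_normal P
  -- a nontrivial element of `V` central in `P`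
  haveI : Group.IsNilpotent (P : Subgroup G) := P.isPGroup'.isNilpotent
  have hV' : (V.subgroupOf (P : Subgroup G)).Normal := Subgroup.Normal.subgroupOf hV _
  have hVb' : V.subgroupOf (P : Subgroup G) ≠ ⊥ := by
    intro h
    apply hVb
    rw [eq_bot_iff]
    intro x hx
    have : (⟨x, hVP hx⟩ : (P : Subgroup G)) ∈ V.subgroupOf (P : Subgroup G) := hx
    rw [h, Subgroup.mem_bot] at this
    simpa using congrArg Subtype.val this
  have h1 := Cfsg.Agent.Lib.Core.normal_inf_center_ne_bot _ hVb'
  rcases (V.subgroupOf (P : Subgroup G) ⊓ Subgroup.center (P : Subgroup G)).bot_or_exists_ne_one with h | ⟨z, hz, hz1⟩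
  · exact absurd h h1
  have hzV : (z : G) ∈ V := hz.1
  have hzc : ∀ t : (P : Subgroup G), t * z = z * t := fun t => (Subgroup.mem_center_iff.1 hz.2) t
  have htop : Subgroup.centralizer ({(z : G)} : Set G) = ⊤ := by
    apply eq_top_of_contains_sylow
    intro q hq
    by_cases hqp : q = p
    · subst hqp
      refine ⟨P, ?_, P.isPGroup', P.not_dvd_index⟩
      intro t ht
      rw [Subgroup.mem_centralizer_iff]
      rintro _ rfl
      have := hzc ⟨t, ht⟩
      exact (congrArg Subtype.val this).symm
    · haveI : Fact q.Prime := ⟨hq⟩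
      obtain ⟨Q, hQ⟩ := Cfsg.Agent.Lib.Hall.exists_invariant_sylow_of_fixedPointFree α hfix q
      refine ⟨Q, ?_, Q.isPGroup', Q.not_dvd_index⟩
      have hQα : ∀ y ∈ (Q : Subgroup G), α y ∈ (Q : Subgroup G) := by
        intro y hy
        rw [← hQ]
        exact ⟨y, hy, rfl⟩
      have hcop : (Nat.card V).Coprime (Nat.card (Q : Subgroup G)) := by
        obtain ⟨a, ha⟩ := IsPGroup.iff_card.1 hVp
        obtain ⟨b, hb⟩ := IsPGroup.iff_card.1 Q.isPGroup'
        rw [ha, hb]
        exact Nat.Coprime.pow _ _ ((Nat.coprime_primes hp.out hq).2 (fun h => hqp h.symm))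
      intro y hy
      rw [Subgroup.mem_centralizer_iff]
      rintro _ rfl
      have := coprime_centralizes α hfix hr hαr hVc hVα hQα hcop y hy _ hzV
      rw [mul_inv_eq_iff_eq_mul] at this
      exact this.symm
  intro hcb
  apply hz1
  have : (z : G) ∈ Subgroup.center G := by
    rw [Subgroup.mem_center_iff]
    intro g
    have hg : g ∈ Subgroup.centralizer ({(z : G)} : Set G) := by rw [htop]; exact Subgroup.mem_top _
    exact (Subgroup.mem_centralizer_iff.1 hg _ rfl).symm
  rw [hcb, Subgroup.mem_bot] at this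
  exact Subtype.ext this

theorem map_eq_of_invariant (α : G ≃* G) {N : Subgroup G} (h : ∀ n ∈ N, α n ∈ N) :
    N.map (α : G →* G) = N := by
  refine Subgroup.eq_of_le_of_card_ge ?_ ?_
  · rintro _ ⟨n, hn, rfl⟩
    exact h n hn
  · rw [Subgroup.card_map_of_injective α.injective]

/-- Restriction of an automorphism to an invariant subgroup. -/
noncomputable def restrEquiv (α : G ≃* G) (H : Subgroup G) (hH : ∀ h ∈ H, α h ∈ H) : H ≃* H :=
  MulEquiv.ofBijective ((α.toMonoidHom.comp H.subtype).codRestrict H (fun x => hH x x.2))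
    (Finite.injective_iff_bijective.1 (by
      intro a b hab
      have : α a = α b := congrArg Subtype.val hab
      exact Subtype.ext (α.injective this)))

theorem restrEquiv_coe (α : G ≃* G) (H : Subgroup G) (hH : ∀ h ∈ H, α h ∈ H) (x : H) :
    ((restrEquiv α H hH x : H) : G) = α x := rfl

theorem restrEquiv_iterate (α : G ≃* G) (H : Subgroup G) (hH : ∀ h ∈ H, α h ∈ H) (i : ℕ) (x : H) :
    (((restrEquiv α H hH)^[i] x : H) : G) = α^[i] x := by
  induction i with
  | zero => rfl
  | succ i ih =>
    rw [Function.iterate_succ_apply', Function.iterate_succ_apply', restrEquiv_coe, ih]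

theorem normalizer_invariant (α : G ≃* G) {Y : Subgroup G} (hY : Y.map (α : G →* G) = Y) {x : G}
    (hx : x ∈ Subgroup.normalizer (Y : Set G)) : α x ∈ Subgroup.normalizer (Y : Set G) := by
  apply mem_normalizer_of_forall_conj_mem
  intro y hy
  have hy' := hy
  rw [← hY] at hy'
  obtain ⟨y₀, hy₀, rfl⟩ := hy'
  have h1 := conj_mem_of_mem_normalizer hx hy₀
  rw [← hY]
  refine ⟨_, h1, ?_⟩
  simp

theorem centralizer_invariant (α : G ≃* G) {Y : Subgroup G} (hY : Y.map (α : G →* G) = Y) {x : G}
    (hx : x ∈ Subgroup.centralizer (Y : Set G)) : α x ∈ Subgroup.centralizer (Y : Set G) := by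
  rw [Subgroup.mem_centralizer_iff] at hx ⊢
  intro y hy
  have hy' : y ∈ Y := hy
  rw [← hY] at hy'
  obtain ⟨y₀, hy₀, rfl⟩ := hy'
  have h1 := hx y₀ hy₀
  have h2 := congrArg α h1
  simpa using h2

end Coprime

/-- Thompson's theorem, by induction on the order of the group. -/
theorem fpf_nilpotent_aux {r : ℕ} (hr : r.Prime) : ∀ (n : ℕ) (G : Type u) [Group G] [Finite G] (α : G ≃* G),
    Nat.card G = n → (∀ x, α x = x → x = 1) → (∀ x, α^[r] x = x) → Group.IsNilpotent G := by
  intro n
  induction n using Nat.strong_induction_on with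
  | _ n ih =>
    intro G _ _ α hcard hfix hαr
    rcases subsingleton_or_nontrivial G with hs | hnt
    · infer_instance
    have hIH : ∀ H : Subgroup G, H ≠ ⊤ → (∀ h ∈ H, α h ∈ H) → Group.IsNilpotent H := by
      intro H hH hinv
      have hlt : Nat.card H < n := by
        rw [← hcard]
        exact lt_of_le_of_ne (Subgroup.card_le_card_group H) (fun h => hH (Subgroup.eq_top_of_card_eq H h))
      refine ih _ hlt H (restrEquiv α H hinv) rfl ?_ ?_
      · intro x hx
        apply Subtype.ext
        exact hfix _ (congrArg Subtype.val hx)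
      · intro x
        apply Subtype.ext
        rw [restrEquiv_iterate, hαr]
    have hpgroup : ∀ p : ℕ, p.Prime → IsPGroup p G → Subgroup.center G ≠ ⊥ := by
      intro p hp hG
      haveI : Fact p.Prime := ⟨hp⟩
      exact (Subgroup.one_lt_card_iff_ne_bot _).1 (by
        haveI := hG.center_nontrivial
        exact Finite.one_lt_card)
    have hcenter : Subgroup.center G ≠ ⊥ := by
      by_cases hN : ∃ N : Subgroup G, N.Normal ∧ N ≠ ⊥ ∧ N ≠ ⊤ ∧ ∀ m ∈ N, α m ∈ N
      · obtain ⟨N, hNn, hNb, hNt, hNα⟩ := hN
        haveI := hNn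
        haveI hNnil := hIH N hNt hNα
        haveI : Nontrivial N := (Subgroup.nontrivial_iff_ne_bot N).2 hNb
        have hcb : Subgroup.center N ≠ ⊥ := Group.IsNilpotent.center_ne_bot N
        rcases (Subgroup.center N).bot_or_exists_ne_one with h | ⟨z, hz, hz1⟩
        · exact absurd h hcb
        have hzo : orderOf (z : G) ≠ 1 := by
          intro h
          apply hz1
          exact Subtype.ext (orderOf_eq_one_iff.1 h)
        obtain ⟨p, hp, hpd⟩ := Nat.exists_prime_and_dvd hzo
        haveI : Fact p.Prime := ⟨hp⟩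
        have hzpos : orderOf (z : G) ≠ 0 := (orderOf_pos _).ne'
        set w : G := (z : G) ^ (orderOf (z : G) / p) with hw
        have hwo : orderOf w = p := orderOf_pow_orderOf_div hzpos hpd
        have hzC : (z : G) ∈ Subgroup.centralizer (N : Set G) := by
          rw [Subgroup.mem_centralizer_iff]
          intro m hm
          have := (Subgroup.mem_center_iff.1 hz) ⟨m, hm⟩
          exact congrArg Subtype.val this
        have hwV : w ∈ OmegaZ p N :=
          ⟨N.pow_mem z.2 _, Subgroup.pow_mem _ hzC _, by rw [← hwo]; exact pow_orderOf_eq_one w⟩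
        have hVb : OmegaZ p N ≠ ⊥ := by
          intro h
          rw [h, Subgroup.mem_bot] at hwV
          rw [hwV, orderOf_one] at hwo
          exact hp.one_lt.ne hwo
        have hVp : IsPGroup p (OmegaZ p N) := by
          rintro ⟨v, hv⟩
          refine ⟨1, Subtype.ext ?_⟩
          simpa using hv.2.2
        have hNmap := map_eq_of_invariant α hNα
        have hVα : ∀ v ∈ OmegaZ p N, α v ∈ OmegaZ p N := by
          rintro v ⟨hv1, hv2, hv3⟩
          refine ⟨hNα v hv1, centralizer_invariant α hNmap hv2, ?_⟩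
          rw [← map_pow, hv3, map_one]
        exact center_ne_bot_of_abelian α hfix hr hαr hVp hVb (EA_OmegaZ p N).1 hVα
      · have hsimple : ∀ N : Subgroup G, N.Normal → N ≠ ⊥ → (∀ m ∈ N, α m ∈ N) → N = ⊤ := by
          intro N h1 h2 h3
          by_contra h4
          exact hN ⟨N, h1, h2, h4, h3⟩
        by_cases hp2 : ∃ p : ℕ, p.Prime ∧ p ≠ 2 ∧ p ∣ Nat.card G
        · obtain ⟨p, hp, hodd, hpd⟩ := hp2
          haveI : Fact p.Prime := ⟨hp⟩
          obtain ⟨P, hP⟩ := Cfsg.Agent.Lib.Hall.exists_invariant_sylow_of_fixedPointFree α hfix p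
          have hPb := P.ne_bot_of_dvd_card hpd
          have hinj : Set.InjOn (α : G →* G) ((P : Subgroup G) : Set G) := α.injective.injOn
          have hJ : (JJ p (P : Subgroup G)).map (α : G →* G) = JJ p (P : Subgroup G) := by
            rw [← JJ_map _ hinj, hP]
          have hZ : (ZZ (P : Subgroup G)).map (α : G →* G) = ZZ (P : Subgroup G) := by
            rw [← ZZ_map _ hinj, hP]
          have hJinv : ∀ m ∈ JJ p (P : Subgroup G), α m ∈ JJ p (P : Subgroup G) := fun m hm => by
            rw [← hJ]; exact ⟨m, hm, rfl⟩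
          have hPt : (P : Subgroup G) = ⊤ → IsPGroup p G := by
            intro h
            have h1 := P.isPGroup'
            rw [h] at h1
            exact h1.of_equiv Subgroup.topEquiv
          refine by_contra ?_
          intro hcb
          -- the normalizer of `J`
          have hNJ : PNil p (Subgroup.normalizer (JJ p (P : Subgroup G) : Set G)) := by
            by_cases htop : Subgroup.normalizer (JJ p (P : Subgroup G) : Set G) = ⊤
            · exfalso
              have hn : (JJ p (P : Subgroup G)).Normal := Subgroup.normalizer_eq_top_iff.1 htop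
              have h1 := hsimple _ hn (JJ_ne_bot (dvd_refl p) P.isPGroup' hPb) hJinv
              have h2 : (P : Subgroup G) = ⊤ := top_le_iff.1 (h1 ▸ JJ_le)
              exact hcb (hpgroup p hp (hPt h2))
            · have hnil := hIH _ htop (fun m hm => normalizer_invariant α hJ hm)
              exact (hasNormalPComplement_iff_pNil _).1
                (Cfsg.Agent.Lib.Transfer.hasNormalPComplement_of_isNilpotent hnil)
          have hCZ : PNil p (Subgroup.centralizer (ZZ (P : Subgroup G) : Set G)) := by
            by_cases htop : Subgroup.centralizer (ZZ (P : Subgroup G) : Set G) = ⊤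
            · exfalso
              apply hcb
              have hZb := ZZ_ne_bot P.isPGroup' hPb
              rcases (ZZ (P : Subgroup G)).bot_or_exists_ne_one with h | ⟨z, hz, hz1⟩
              · exact absurd h hZb
              intro hc
              apply hz1
              have : z ∈ Subgroup.center G := by
                rw [Subgroup.mem_center_iff]
                intro g
                have hg : g ∈ Subgroup.centralizer (ZZ (P : Subgroup G) : Set G) := by
                  rw [htop]; exact Subgroup.mem_top _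
                exact (Subgroup.mem_centralizer_iff.1 hg z hz).symm
              rw [hc, Subgroup.mem_bot] at this
              exact this
            · have hnil := hIH _ htop (fun m hm => centralizer_invariant α hZ hm)
              exact (hasNormalPComplement_iff_pNil _).1
                (Cfsg.Agent.Lib.Transfer.hasNormalPComplement_of_isNilpotent hnil)
          have hPN := thompson_pnil hodd (dvd_refl p) P hNJ hCZ
          have hkn := hPN.ker_normal
          have hkinv : ∀ m ∈ hPN.ker, α m ∈ hPN.ker := by
            rintro m ⟨-, hm⟩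
            refine ⟨Subgroup.mem_top _, ?_⟩
            rw [MulEquiv.orderOf_eq]
            exact hm
          by_cases hkb : hPN.ker = ⊥
          · apply hcb
            refine hpgroup p hp ?_
            intro g
            obtain ⟨k, hk⟩ := Cfsg.Agent.Lib.Techniques.exists_pow_coprime_order (p := p) g
            refine ⟨k, ?_⟩
            have : g ^ p ^ k ∈ hPN.ker := ⟨Subgroup.mem_top _, hk⟩
            rw [hkb, Subgroup.mem_bot] at this
            exact this
          · have hkt := hsimple _ hkn hkb hkinv
            obtain ⟨x, hx⟩ := exists_prime_orderOf_dvd_card' p hpd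
            have hxk : x ∈ hPN.ker := by rw [hkt]; exact Subgroup.mem_top _
            have h1 := hxk.2
            rw [hx] at h1
            have : p = 1 := by simpa using h1
            exact hp.one_lt.ne' this
        · -- a `2`-group
          have h2 : IsPGroup 2 G := by
            refine IsPGroup.of_card (n := (Nat.primeFactorsList (Nat.card G)).length) ?_
            apply Nat.eq_prime_pow_of_unique_prime_dvd Nat.card_pos.ne'
            intro d hd hdd
            by_contra hne
            exact hp2 ⟨d, hd, hne, hdd⟩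
          exact hpgroup 2 Nat.prime_two h2
    -- induction on the quotient by the centre
    have hZinv : ∀ m ∈ Subgroup.center G, α m ∈ Subgroup.center G := by
      intro m hm
      rw [Subgroup.mem_center_iff] at hm ⊢
      intro g
      obtain ⟨g₀, rfl⟩ := α.surjective g
      rw [← map_mul, ← map_mul, hm]
    have hlt : Nat.card (G ⧸ Subgroup.center G) < n := by
      rw [← hcard]
      have h1 := Subgroup.card_eq_card_quotient_mul_card_subgroup (Subgroup.center G)
      have h2 : 1 < Nat.card (Subgroup.center G) := (Subgroup.one_lt_card_iff_ne_bot _).2 hcenter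
      have h3 : 0 < Nat.card (G ⧸ Subgroup.center G) := Nat.card_pos
      nlinarith
    let αb : (G ⧸ Subgroup.center G) ≃* (G ⧸ Subgroup.center G) :=
      QuotientGroup.congr _ _ α (map_eq_of_invariant α hZinv)
    have hαb : ∀ x : G, αb (x : G ⧸ Subgroup.center G) = ((α x : G) : G ⧸ Subgroup.center G) := fun x => rfl
    have hit : ∀ (i : ℕ) (x : G), αb^[i] (x : G ⧸ Subgroup.center G) = ((α^[i] x : G) : G ⧸ Subgroup.center G) := by
      intro i x
      induction i with
      | zero => rfl
      | succ i ih =>
        rw [Function.iterate_succ_apply', Function.iterate_succ_apply', ih, hαb]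
    refine Group.of_quotient_center_nilpotent (ih _ hlt (G ⧸ Subgroup.center G) αb rfl ?_ ?_)
    · intro x hx
      obtain ⟨x, rfl⟩ := QuotientGroup.mk_surjective x
      rw [hαb] at hx
      have h1 : (α x)⁻¹ * x ∈ Subgroup.center G := QuotientGroup.eq.1 hx
      have h2 := Cfsg.Agent.S0032.result α hfix (Subgroup.center G) hZinv x h1
      exact (QuotientGroup.eq_one_iff x).2 h2
    · intro x
      obtain ⟨x, rfl⟩ := QuotientGroup.mk_surjective x
      rw [hit, hαr]

/-- Thompson's theorem on fixed-point-free automorphisms of prime order. -/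
theorem fpf_nilpotent {G : Type u} [Group G] [Finite G] {r : ℕ} (hr : r.Prime) (α : G ≃* G)
    (hfix : ∀ x, α x = x → x = 1) (hαr : ∀ x, α^[r] x = x) : Group.IsNilpotent G :=
  fpf_nilpotent_aux hr _ G α rfl hfix hαr

end Cfsg.Agent.Lib.FrobThm
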